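import Groth.Agent.Lib.Pic18.Chart
import Groth.Agent.Lib.GeomRed18.Common
import Groth.Agent.Lib.Descend.BaseChangeAt
import Groth.Agent.Lib.H12.Specialization

/-!
# Morphisms which are isomorphisms on some local rings
-/

set_option autoImplicit false
set_option linter.style.haveILetI false
universe u

open CategoryTheory CategoryTheory.Limits AlgebraicGeometry TopologicalSpace Opposite

namespace Groth.Agent.AffineFin18

open Groth.Agent.M1 (ores)

variable {T X : Scheme.{u}}

/-- A flat preimmersion is an isomorphism on local rings. -/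
theorem isIso_stalkMap_of_flat_preimmersion (h : T ⟶ X) [Flat h] [IsPreimmersion h] (q : T) :
    IsIso (h.stalkMap q) :=
  (ConcreteCategory.isIso_iff_bijective _).2 ⟨GeomRed.stalkMap_injective h q, h.stalkMap_surjective q⟩

/-- The isomorphism property passes to generizations. -/
theorem isIso_stalkMap_of_specializes (f : T ⟶ X) {θ t : T} (h : θ ⤳ t) (ht : IsIso (f.stalkMap t)) :
    IsIso (f.stalkMap θ) := by
  obtain ⟨q, rfl⟩ := (Scheme.range_fromSpecStalk (x := t)).symm.subset (show θ ∈ {y | y ⤳ t} from h)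
  haveI := Descend.flat_fromSpecStalk t
  haveI := Descend.flat_fromSpecStalk (f t)
  haveI : Flat (Spec.map (f.stalkMap t) ≫ X.fromSpecStalk (f t)) := inferInstance
  have := isIso_stalkMap_of_flat_preimmersion (T.fromSpecStalk t) q
  have hc : IsIso ((T.fromSpecStalk t ≫ f).stalkMap q) := by
    have e := Scheme.SpecMap_stalkMap_fromSpecStalk (f := f) (x := t)
    revert q
    rw [← e]
    intro q _ _
    exact isIso_stalkMap_of_flat_preimmersion (Spec.map (f.stalkMap t) ≫ X.fromSpecStalk (f t)) q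
  rw [Scheme.Hom.stalkMap_comp] at hc
  have hb := (ConcreteCategory.isIso_iff_bijective _).1 hc
  refine (ConcreteCategory.isIso_iff_bijective _).2
    ((Function.Bijective.of_comp_iff' ((ConcreteCategory.isIso_iff_bijective _).1 this) _).1 ?_)
  exact hb

/-- Generizations lift. -/
theorem exists_lift (f : T ⟶ X) {t : T} (ht : IsIso (f.stalkMap t)) {p : X} (hp : p ⤳ f t) :
    ∃ θ : T, θ ⤳ t ∧ f θ = p := by
  obtain ⟨q, rfl⟩ := (Scheme.range_fromSpecStalk (x := f t)).symm.subset (show p ∈ {y | y ⤳ f t} from hp)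
  obtain ⟨r, rfl⟩ := (Spec.map (f.stalkMap t)).surjective q
  refine ⟨T.fromSpecStalk t r, (Scheme.range_fromSpecStalk (x := t)).subset ⟨r, rfl⟩, ?_⟩
  rw [← Scheme.Hom.comp_apply, ← Scheme.SpecMap_stalkMap_fromSpecStalk, Scheme.Hom.comp_apply]

/-- A quasi-compact set cut out by a closed condition meets no small neighbourhood of a point none of
whose generizations it contains. -/
theorem notMem_closure {Z : Scheme.{u}} (g : Z ⟶ X) [QuasiCompact g] [QuasiSeparatedSpace X] {V : X.Opens}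
    (hV : IsCompact (V : Set X)) (G : X.Opens) (x : X)
    (h : ∀ z : Z, g z ∈ V → g z ∉ G → ¬ g z ⤳ x) :
    x ∉ closure (Set.range g ∩ ((V : Set X) \ G)) := by
  intro hx
  let Y : (g ⁻¹ᵁ V).toScheme.IdealSheafData :=
    Scheme.IdealSheafData.vanishingIdeal ⟨(((g ⁻¹ᵁ V).ι ≫ g) ⁻¹ᵁ G : Set _)ᶜ, (Opens.isOpen _).isClosed_compl⟩
  haveI : CompactSpace (g ⁻¹ᵁ V).toScheme := isCompact_iff_compactSpace.1 (g.isCompact_preimage hV)
  haveI : QuasiCompact ((g ⁻¹ᵁ V).ι ≫ g) := quasiCompact_of_compactSpace _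
  have hr : Set.range (Y.subschemeι ≫ (g ⁻¹ᵁ V).ι ≫ g) = Set.range g ∩ ((V : Set X) \ G) := by
    rw [Scheme.Hom.comp_base, TopCat.coe_comp, Set.range_comp, Scheme.IdealSheafData.range_subschemeι,
      Scheme.IdealSheafData.coe_support_vanishingIdeal]
    ext p
    constructor
    · rintro ⟨z, hz, rfl⟩
      exact ⟨⟨z.1, rfl⟩, z.2, hz⟩
    · rintro ⟨⟨z, rfl⟩, hzV, hzG⟩
      exact ⟨⟨z, hzV⟩, hzG, rfl⟩
  rw [← hr] at hx
  obtain ⟨z, hz⟩ := H12.exists_specializes_of_mem_closure_range _ x hx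
  have := hr.subset ⟨z, rfl⟩
  obtain ⟨⟨z', hz'⟩, hV', hG'⟩ := this
  exact h z' (hz' ▸ hV') (hz' ▸ hG') (hz' ▸ hz)

/-- The locus where two functions agree. -/
noncomputable def agree {V : X.Opens} (a b : Γ(X, V)) : X.Opens :=
  ⨆ O : {O : X.Opens // ∃ h : O ≤ V, ores h a = ores h b}, O.1

theorem agree_le {V : X.Opens} (a b : Γ(X, V)) : agree a b ≤ V := iSup_le fun O => O.2.choose

theorem res_agree {V O : X.Opens} (a b : Γ(X, V)) (hO : O ≤ agree a b) :
    ores (hO.trans (agree_le a b)) a = ores (hO.trans (agree_le a b)) b := by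
  refine TopCat.Presheaf.section_ext X.sheaf O _ _ fun z hz => ?_
  obtain ⟨⟨O', h', e⟩, hz'⟩ := Opens.mem_iSup.1 (hO hz)
  change X.presheaf.germ O z hz _ = X.presheaf.germ O z hz _
  rw [X.presheaf.germ_res_apply, X.presheaf.germ_res_apply]
  have := congrArg (X.presheaf.germ O' z hz') e
  rwa [X.presheaf.germ_res_apply, X.presheaf.germ_res_apply] at this

theorem mem_agree {V : X.Opens} (a b : Γ(X, V)) {z : X} (hz : z ∈ V)
    (h : X.presheaf.germ V z hz a = X.presheaf.germ V z hz b) : z ∈ agree a b := by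
  obtain ⟨O, hzO, i, i', e⟩ := X.presheaf.germ_eq z hz hz a b h
  exact Opens.mem_iSup.2 ⟨⟨O, i.le, e⟩, hzO⟩

end Groth.Agent.AffineFin18
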