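import Groth.Agent.Lib.AffineFin18.Spread
import Groth.Agent.Lib.Ample18.Avoid

/-!
# An affine open containing the images of finitely many points of an affine scheme
-/

set_option autoImplicit false
set_option linter.style.haveILetI false
universe u

open CategoryTheory CategoryTheory.Limits AlgebraicGeometry TopologicalSpace Opposite

namespace Groth.Agent.AffineFin18

open Groth.Agent.M1 (ores)

variable {T X : Scheme.{u}} (f : T ⟶ X) [IsAffine T] [QuasiSeparatedSpace X]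
  (hinj : ∀ η η' : T, closure ({η} : Set T) ∈ irreducibleComponents (T : Type u) →
      closure ({η'} : Set T) ∈ irreducibleComponents (T : Type u) → f η = f η' → η = η')
  (s : Finset T) (hs : ∀ t ∈ s, IsIso (f.stalkMap t))

include hinj hs in
theorem exists_quasiAffine_open :
    ∃ W : X.Opens, W.toScheme.IsQuasiAffine ∧ ∀ t ∈ s, f t ∈ W := by
  classical
  have hU : ∀ t : s, ∃ U : X.Opens, IsAffineOpen U ∧ f t ∈ U := fun t => by
    obtain ⟨U, hU, htU, -⟩ := exists_isAffineOpen_mem_and_subset (U := (⊤ : X.Opens)) (x := f t) trivial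
    exact ⟨U, hU, htU⟩
  choose U hU htU using hU
  have ha : ∀ t : s, ∃ a : Γ(T, ⊤), T.basicOpen a ≤ f ⁻¹ᵁ U t ∧ t.1 ∈ T.basicOpen a := fun t =>
    (isAffineOpen_top T).exists_basicOpen_le (V := f ⁻¹ᵁ U t) ⟨t.1, htU t⟩ trivial
  choose a haU hta using ha
  choose W σ hσ using fun t : s => exists_descend f hinj s hs (a t)
  have hV : ∀ j : s, ∃ V : X.Opens, IsAffineOpen V ∧ f j ∈ V ∧ (∀ i, V ≤ W i) ∧ V ≤ X.basicOpen (σ j) ∧
      ∀ i, V ⊓ X.basicOpen (σ i) ≤ U i := by
    intro j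
    obtain ⟨A, hA, hjA, hAW⟩ := exists_isAffineOpen_mem_and_subset (x := f j)
      (U := ⟨⋂ i : s, (W i : Set X), isOpen_iInter_of_finite fun i => (W i).2⟩)
      (Set.mem_iInter.2 fun i => (hσ i j j.2).mem)
    have hAW' : ∀ i, A ≤ W i := fun i z hz => Set.mem_iInter.1 (hAW hz) i
    have hbad : ∀ i, f j ∉ closure (((A ⊓ X.basicOpen (σ i) : X.Opens) : Set X) \ U i) := by
      intro i
      have hc : IsCompact ((A ⊓ X.basicOpen (σ i) : X.Opens) : Set X) := by
        rw [← Scheme.basicOpen_res X (σ i) (homOfLE (hAW' i)).op]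
        exact (hA.basicOpen _).isCompact
      have h' := notMem_closure (𝟙 X) hc (U i) (f j) ?_
      · rwa [Scheme.Hom.id_base, TopCat.coe_id, Set.range_id, Set.univ_inter] at h'
      intro z (hz : z ∈ A ⊓ X.basicOpen (σ i)) hzU (hzj : z ⤳ f j)
      obtain ⟨θ, hθ, rfl⟩ := exists_lift f (hs j j.2) hzj
      exact hzU (haU i ((((hσ i j j.2).specializes hθ).mem_basicOpen_iff
        (isIso_stalkMap_of_specializes f hθ (hs j j.2))).1 hz.2))
    let C : Set X := ⋃ i : s, closure (((A ⊓ X.basicOpen (σ i) : X.Opens) : Set X) \ U i)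
    have hC : IsClosed C := isClosed_iUnion_of_finite fun _ => isClosed_closure
    obtain ⟨V, hV, hjV, hVle⟩ := exists_isAffineOpen_mem_and_subset (x := f j)
      (U := A ⊓ X.basicOpen (σ j) ⊓ ⟨Cᶜ, hC.isOpen_compl⟩)
      ⟨⟨hjA, ((hσ j j j.2).mem_basicOpen_iff (hs j j.2)).2 (hta j)⟩, fun h => by
        obtain ⟨i, hi⟩ := Set.mem_iUnion.1 h
        exact hbad i hi⟩
    refine ⟨V, hV, hjV, fun i z hz => hAW' i (hVle hz).1.1, fun z hz => (hVle hz).1.2, fun i z hz => ?_⟩
    by_contra hzU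
    exact (hVle hz.1).2 (Set.mem_iUnion.2 ⟨i, subset_closure ⟨⟨(hVle hz.1).1.1, hz.2⟩, hzU⟩⟩)
  choose V hV hjV hVW hVσ hVU using hV
  let W₀ : X.Opens := ⨆ j, V j
  have hcW : IsCompact (W₀ : Set X) := by
    rw [show (W₀ : Set X) = ⋃ j, (V j : Set X) from Opens.coe_iSup V]
    exact isCompact_iUnion fun j => (hV j).isCompact
  have hqW : IsQuasiSeparated (W₀ : Set X) := isQuasiSeparated_univ.of_subset (Set.subset_univ _)
  let b : ∀ i : s, Γ(X, W₀) := fun i => ores (iSup_le fun j => hVW j i) (σ i)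
  have hbU : ∀ i, X.basicOpen (b i) ≤ U i := fun i z hz => by
    rw [Scheme.basicOpen_res] at hz
    obtain ⟨j, hj⟩ := Opens.mem_iSup.1 (show z ∈ W₀ from hz.1)
    exact hVU j i ⟨hj, hz.2⟩
  haveI : CompactSpace W₀.toScheme := isCompact_iff_compactSpace.1 hcW
  refine ⟨W₀, Scheme.IsQuasiAffine.of_forall_exists_mem_basicOpen _ fun x => ?_,
    fun t ht => Opens.mem_iSup.2 ⟨⟨t, ht⟩, hjV _⟩⟩
  obtain ⟨j, hj⟩ := Opens.mem_iSup.1 (show x.1 ∈ W₀ from x.2)
  have hxb : x.1 ∈ X.basicOpen (b j) := by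
    rw [Scheme.basicOpen_res]
    exact ⟨x.2, hVσ j hj⟩
  obtain ⟨h, hhb, hxh⟩ := (hU j).exists_basicOpen_le (V := X.basicOpen (b j)) ⟨x.1, hxb⟩ (hbU j hxb)
  haveI := isLocalization_basicOpen_of_qcqs hcW hqW (b j)
  obtain ⟨n, g, hg⟩ := IsLocalization.Away.surj (b j) (ores (hbU j) h)
  have e : X.basicOpen (g * b j) = X.basicOpen h := by
    rw [X.basicOpen_mul]
    ext z
    constructor
    · rintro ⟨hzg, hzb⟩
      have hzg' : z ∈ X.basicOpen (ores (X.basicOpen_le (b j)) g) := by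
        rw [Scheme.basicOpen_res]; exact ⟨hzb, hzg⟩
      rw [show ores (X.basicOpen_le (b j)) g = ores (hbU j) h * ores (X.basicOpen_le (b j)) (b j) ^ n from hg.symm,
        X.basicOpen_mul] at hzg'
      have := hzg'.1
      rw [Scheme.basicOpen_res] at this
      exact this.2
    · intro hz
      have hzb := hhb hz
      refine ⟨?_, hzb⟩
      have h1 : z ∈ X.basicOpen (ores (X.basicOpen_le (b j)) g) := by
        rw [show ores (X.basicOpen_le (b j)) g = ores (hbU j) h * ores (X.basicOpen_le (b j)) (b j) ^ n from hg.symm,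
          X.mem_basicOpen _ z hzb, map_mul, map_pow]
        refine IsUnit.mul ?_ (IsUnit.pow _ ?_)
        · rw [X.presheaf.germ_res_apply]
          exact (X.mem_basicOpen h z (X.basicOpen_le h hz)).1 hz
        · rw [X.presheaf.germ_res_apply]
          exact (X.mem_basicOpen (b j) z (X.basicOpen_le _ hzb)).1 hzb
      rw [Scheme.basicOpen_res] at h1
      exact h1.2
  refine ⟨W₀.topIso.inv (g * b j), ?_, ?_⟩
  · rw [← Scheme.Hom.isAffineOpen_iff_of_isOpenImmersion W₀.ι, Scheme.Opens.ι_image_basicOpen_topIso_inv, e]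
    exact (hU j).basicOpen h
  · have hx : x.1 ∈ W₀.ι ''ᵁ W₀.toScheme.basicOpen (W₀.topIso.inv (g * b j)) := by
      rw [Scheme.Opens.ι_image_basicOpen_topIso_inv, e]
      exact hxh
    obtain ⟨y, hy, hyx⟩ := hx
    obtain rfl : y = x := Subtype.ext hyx
    exact hy

include hinj hs in
theorem exists_affineOpen : ∃ U : X.Opens, IsAffineOpen U ∧ ∀ t ∈ s, f t ∈ U := by
  obtain ⟨W, hW, htW⟩ := exists_quasiAffine_open f hinj s hs
  obtain ⟨σ, hσ, hZ, -⟩ := Amp.exists_affine_section_finite (X := W.toScheme)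
    (PicLoc.isInvertible_structureModule W.toScheme)
    (Set.finite_range fun t : s => (⟨f t, htW t t.2⟩ : W)) (W := ⊤) fun _ _ => trivial
  exact ⟨W.ι ''ᵁ _, hσ.image_of_isOpenImmersion W.ι, fun t ht => ⟨_, hZ ⟨⟨t, ht⟩, rfl⟩, rfl⟩⟩

end Groth.Agent.AffineFin18
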