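import Groth.Agent.Lib.AffineFin18.Basic

/-!
# Functions on an affine scheme descend near finitely many points
-/

set_option autoImplicit false
set_option linter.style.haveILetI false
universe u

open CategoryTheory CategoryTheory.Limits AlgebraicGeometry TopologicalSpace Opposite IsLocalRing

namespace Groth.Agent.AffineFin18

open Groth.Agent.M1 (ores)

variable {T X : Scheme.{u}} (f : T ⟶ X) (a : Γ(T, ⊤))

/-- `σ` represents `a` at `θ`. -/
def Rep (θ : T) {W : X.Opens} (σ : Γ(X, W)) : Prop :=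
  ∃ h : f θ ∈ W, f.stalkMap θ (X.presheaf.germ W (f θ) h σ) = T.presheaf.germ ⊤ θ trivial a

variable {f a}

theorem Rep.mem {θ : T} {W : X.Opens} {σ : Γ(X, W)} (h : Rep f a θ σ) : f θ ∈ W := h.1

theorem Rep.res {θ : T} {W W' : X.Opens} {σ : Γ(X, W)} (h : Rep f a θ σ) (hW : W' ≤ W) (hθ : f θ ∈ W') :
    Rep f a θ (ores hW σ) := ⟨hθ, by rw [X.presheaf.germ_res_apply]; exact h.2⟩

theorem Rep.specializes {θ t : T} (hθt : θ ⤳ t) {W : X.Opens} {σ : Γ(X, W)} (h : Rep f a t σ) :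
    Rep f a θ σ := by
  obtain ⟨ht, e⟩ := h
  rw [Scheme.Hom.germ_stalkMap_apply] at e
  refine ⟨(hθt.map f.continuous).mem_open W.2 ht, ?_⟩
  rw [Scheme.Hom.germ_stalkMap_apply]
  have := congrArg (T.presheaf.stalkSpecializes hθt) e
  rwa [T.presheaf.germ_stalkSpecializes_apply, T.presheaf.germ_stalkSpecializes_apply] at this

theorem exists_rep {t : T} (ht : IsIso (f.stalkMap t)) :
    ∃ (W : X.Opens) (σ : Γ(X, W)), Rep f a t σ := by
  obtain ⟨c, hc⟩ := ((ConcreteCategory.isIso_iff_bijective _).1 ht).2 (T.presheaf.germ ⊤ t trivial a)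
  obtain ⟨W, hW, σ, rfl⟩ := X.presheaf.exists_germ_eq c
  exact ⟨W, σ, hW, hc⟩

theorem Rep.mem_agree {θ : T} (hθ : IsIso (f.stalkMap θ)) {W : X.Opens} {σ σ' : Γ(X, W)}
    (h : Rep f a θ σ) (h' : Rep f a θ σ') : f θ ∈ agree σ σ' :=
  AffineFin18.mem_agree σ σ' h.1 (((ConcreteCategory.isIso_iff_bijective _).1 hθ).1 (h.2.trans h'.2.symm))

theorem Rep.mem_basicOpen_iff {θ : T} (hθ : IsIso (f.stalkMap θ)) {W : X.Opens} {σ : Γ(X, W)}
    (h : Rep f a θ σ) : f θ ∈ X.basicOpen σ ↔ θ ∈ T.basicOpen a := by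
  rw [X.mem_basicOpen σ _ h.1, T.mem_basicOpen a θ trivial, ← h.2]
  exact ⟨fun hu => hu.map _, fun hu => isUnit_of_map_unit (f.stalkMap θ).hom _ hu⟩

/-- `f` is injective on the generizations of such a point. -/
theorem eq_of_map_eq_of_specializes {θ θ₁ θ₂ : T} (hθ : IsIso (f.stalkMap θ)) (h₁ : θ₁ ⤳ θ) (h₂ : θ₂ ⤳ θ)
    (e : f θ₁ = f θ₂) : θ₁ = θ₂ := by
  obtain ⟨r₁, rfl⟩ := (Scheme.range_fromSpecStalk (x := θ)).symm.subset (show θ₁ ∈ {y | y ⤳ θ} from h₁)
  obtain ⟨r₂, rfl⟩ := (Scheme.range_fromSpecStalk (x := θ)).symm.subset (show θ₂ ∈ {y | y ⤳ θ} from h₂)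
  rw [← Scheme.Hom.comp_apply, ← Scheme.Hom.comp_apply, ← Scheme.SpecMap_stalkMap_fromSpecStalk,
    Scheme.Hom.comp_apply, Scheme.Hom.comp_apply] at e
  have h : r₁ = r₂ := (Spec.map (f.stalkMap θ)).isEmbedding.injective ((X.fromSpecStalk (f θ)).isEmbedding.injective e)
  rw [h]

theorem closure_mem_irreducibleComponents {θ : T} (h : ∀ ξ : T, ξ ⤳ θ → ξ = θ) :
    closure ({θ} : Set T) ∈ irreducibleComponents (T : Type u) := by
  refine ⟨isIrreducible_singleton.closure, fun Z hZ hle => ?_⟩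
  obtain ⟨ξ, hξ⟩ := QuasiSober.sober hZ.closure isClosed_closure
  have h1 : ξ ⤳ θ := hξ.specializes (subset_closure (hle (subset_closure rfl)))
  obtain rfl := h ξ h1
  exact subset_closure.trans hξ.symm.le

variable (f) [IsAffine T]

/-- Two points with isomorphic local rings and the same image are equal. -/
theorem eq_of_map_eq (hinj : ∀ η η' : T, closure ({η} : Set T) ∈ irreducibleComponents (T : Type u) →
      closure ({η'} : Set T) ∈ irreducibleComponents (T : Type u) → f η = f η' → η = η')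
    {θ θ' : T} (hθ : IsIso (f.stalkMap θ)) (hθ' : IsIso (f.stalkMap θ')) (e : f θ = f θ') : θ = θ' := by
  suffices key : ∀ {θ θ' : T}, IsIso (f.stalkMap θ) → IsIso (f.stalkMap θ') → f θ = f θ' →
      ∀ a : Γ(T, ⊤), θ ∈ T.basicOpen a → θ' ∈ T.basicOpen a by
    refine Inseparable.eq (inseparable_iff_forall_isOpen.2 fun O hO => ⟨fun h => ?_, fun h => ?_⟩)
    · obtain ⟨b, hb, hθb⟩ := (isAffineOpen_top T).exists_basicOpen_le (V := ⟨O, hO⟩) ⟨θ, h⟩ trivial
      exact hb (key hθ hθ' e b hθb)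
    · obtain ⟨b, hb, hθb⟩ := (isAffineOpen_top T).exists_basicOpen_le (V := ⟨O, hO⟩) ⟨θ', h⟩ trivial
      exact hb (key hθ' hθ e.symm b hθb)
  intro θ θ' hθ hθ' e a ha
  obtain ⟨W, σ, hσ⟩ := exists_rep (a := a) hθ
  obtain ⟨W', σ', hσ'⟩ := exists_rep (a := a) hθ'
  have hp : f θ ∈ W ⊓ W' := ⟨hσ.mem, e ▸ hσ'.mem⟩
  have h1 := hσ.res (inf_le_left : W ⊓ W' ≤ W) hp
  have h2 := hσ'.res (inf_le_right : W ⊓ W' ≤ W') (e ▸ hp)
  -- a minimal generization
  obtain ⟨q, hq, -⟩ := Ideal.exists_minimalPrimes_le (bot_le (a := maximalIdeal (X.presheaf.stalk (f θ))))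
  haveI := hq.1.1
  let η := X.fromSpecStalk (f θ) ⟨q, inferInstance⟩
  have hη : η ⤳ f θ := (Scheme.range_fromSpecStalk (x := f θ)).subset ⟨_, rfl⟩
  obtain ⟨θ₀, h₀, e₀⟩ := exists_lift f hθ hη
  obtain ⟨θ₀', h₀', e₀'⟩ := exists_lift f hθ' (e ▸ hη)
  have hmax : ∀ {ξ θ₀ θ : T}, IsIso (f.stalkMap θ) → θ₀ ⤳ θ → f θ₀ = η → η ⤳ f θ → ξ ⤳ θ₀ →
      f ξ ⤳ η → f ξ = η → ξ = θ₀ := fun hi h h' _ hξ _ hξ' =>
    eq_of_map_eq_of_specializes hi (hξ.trans h) h (hξ'.trans h'.symm)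
  have hmin : ∀ ξ : T, f ξ ⤳ η → f ξ = η := fun ξ hξ => by
    obtain ⟨q', hq'⟩ := (Scheme.range_fromSpecStalk (x := f θ)).symm.subset
      (show f ξ ∈ {y | y ⤳ f θ} from hξ.trans hη)
    rw [← hq'] at hξ ⊢
    have hle : q'.asIdeal ≤ q := (PrimeSpectrum.le_iff_specializes q' ⟨q, inferInstance⟩).2
      ((X.fromSpecStalk (f θ)).isEmbedding.toIsInducing.specializes_iff.1 hξ)
    exact congrArg (X.fromSpecStalk (f θ)) (PrimeSpectrum.ext (le_antisymm hle (hq.2 ⟨q'.isPrime, bot_le⟩ hle)))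
  have hgen : ∀ {θ₁ θ₂ : T}, IsIso (f.stalkMap θ₂) → θ₁ ⤳ θ₂ → f θ₁ = η → η ⤳ f θ₂ →
      closure ({θ₁} : Set T) ∈ irreducibleComponents (T : Type u) := fun hi h h' hη' =>
    closure_mem_irreducibleComponents fun ξ hξ =>
      hmax hi h h' hη' hξ (h' ▸ hξ.map f.continuous) (hmin ξ (h' ▸ hξ.map f.continuous))
  obtain rfl : θ₀ = θ₀' := hinj _ _ (hgen hθ h₀ e₀ hη) (hgen hθ' h₀' e₀' (e ▸ hη)) (e₀.trans e₀'.symm)
  have hag := (h1.specializes h₀).mem_agree (isIso_stalkMap_of_specializes f h₀ hθ) (h2.specializes h₀')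
  rw [e₀] at hag
  -- the difference lies in the maximal ideal
  let d := ores (inf_le_left : W ⊓ W' ≤ W) σ - ores (inf_le_right : W ⊓ W' ≤ W') σ'
  have hd : X.presheaf.germ (W ⊓ W') (f θ) hp d ∈ maximalIdeal (X.presheaf.stalk (f θ)) := by
    refine IsLocalRing.le_maximalIdeal hq.1.1.ne_top (not_not.1 fun hnot => ?_)
    have hb := (Pic18.fromSpecStalk_mem_basicOpen_iff hp d ⟨q, inferInstance⟩).2 hnot
    have hηW : η ∈ W ⊓ W' := hη.mem_open (W ⊓ W').2 hp
    rw [X.mem_basicOpen d η hηW] at hb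
    have h0 := congrArg (X.presheaf.germ (agree _ _) η hag) (res_agree _ _ le_rfl :
      ores (agree_le (ores (inf_le_left : W ⊓ W' ≤ W) σ) (ores (inf_le_right : W ⊓ W' ≤ W') σ')) _ = _)
    simp only [ores, TopCat.Presheaf.germ_res_apply] at h0
    simp only [d, ores, map_sub, TopCat.Presheaf.germ_res_apply] at hb
    rw [h0, sub_self] at hb
    exact not_isUnit_zero hb
  have hu := (h1.mem_basicOpen_iff hθ).2 ha
  rw [X.mem_basicOpen _ _ hp] at hu
  have hu' : IsUnit (X.presheaf.germ (W ⊓ W') (f θ) hp (ores (inf_le_right : W ⊓ W' ≤ W') σ')) := by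
    by_contra h
    refine (show X.presheaf.germ (W ⊓ W') (f θ) hp (ores (inf_le_left : W ⊓ W' ≤ W) σ) ∉
      maximalIdeal (X.presheaf.stalk (f θ)) from fun hc => hc hu) ?_
    have := add_mem hd ((IsLocalRing.mem_maximalIdeal _).2 h)
    rwa [map_sub, sub_add_cancel] at this
  have hm := (X.mem_basicOpen _ _ hp).2 hu'
  rw [e] at hm
  exact (h2.mem_basicOpen_iff hθ').1 hm

variable [QuasiSeparatedSpace X]
  (hinj : ∀ η η' : T, closure ({η} : Set T) ∈ irreducibleComponents (T : Type u) →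
      closure ({η'} : Set T) ∈ irreducibleComponents (T : Type u) → f η = f η' → η = η')
  (s : Finset T) (hs : ∀ t ∈ s, IsIso (f.stalkMap t))

include hinj hs in
/-- A function descends to a neighbourhood of the images. -/
theorem exists_descend (a : Γ(T, ⊤)) :
    ∃ (W : X.Opens) (σ : Γ(X, W)), ∀ t ∈ s, Rep f a t σ := by
  classical
  choose W₀ σ₀ h₀ using fun t : s => exists_rep (a := a) (hs t t.2)
  have hA : ∀ t : s, ∃ A : X.Opens, IsAffineOpen A ∧ f t ∈ A ∧ A ≤ W₀ t := fun t => by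
    obtain ⟨A, hA, htA, hAW⟩ := exists_isAffineOpen_mem_and_subset (U := W₀ t) (h₀ t).mem
    exact ⟨A, hA, htA, hAW⟩
  choose A hA htA hAW using hA
  let G : s → s → X.Opens := fun i j =>
    agree (ores ((inf_le_left : A i ⊓ A j ≤ A i).trans (hAW i)) (σ₀ i))
      (ores ((inf_le_right : A i ⊓ A j ≤ A j).trans (hAW j)) (σ₀ j))
  have hVc : ∀ i j : s, IsCompact ((A i ⊓ A j : X.Opens) : Set X) := fun i j =>
    QuasiSeparatedSpace.inter_isCompact _ _ (A i).2 (hA i).isCompact (A j).2 (hA j).isCompact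
  -- points of disagreement above `f i` do not specialise to `f j`
  have hbad : ∀ i j : s, f j ∉ closure (Set.range (X.fromSpecStalk (f i)) ∩
      (((A i ⊓ A j : X.Opens) : Set X) \ G i j)) := by
    intro i j
    haveI : QuasiCompact (X.fromSpecStalk (f i)) := quasiCompact_of_compactSpace _
    refine notMem_closure _ (hVc i j) (G i j) _ fun z hzV hzG hzj => hzG ?_
    have hzi : X.fromSpecStalk (f i) z ⤳ f i := (Scheme.range_fromSpecStalk (x := f i)).subset ⟨z, rfl⟩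
    obtain ⟨θ, hθ, e⟩ := exists_lift f (hs i i.2) hzi
    obtain ⟨θ', hθ', e'⟩ := exists_lift f (hs j j.2) hzj
    obtain rfl := eq_of_map_eq f hinj (isIso_stalkMap_of_specializes f hθ (hs i i.2))
      (isIso_stalkMap_of_specializes f hθ' (hs j j.2)) (e.trans e'.symm)
    have := (((h₀ i).specializes hθ).res ((inf_le_left : A i ⊓ A j ≤ A i).trans (hAW i)) (e ▸ hzV)).mem_agree
      (isIso_stalkMap_of_specializes f hθ (hs i i.2))
      (((h₀ j).specializes hθ').res ((inf_le_right : A i ⊓ A j ≤ A j).trans (hAW j)) (e ▸ hzV))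
    rwa [e] at this
  -- first shrinking
  have hB : ∀ j : s, ∃ B : X.Opens, IsAffineOpen B ∧ f j ∈ B ∧ B ≤ A j ∧
      ∀ i : s, Disjoint (B : Set X) (Set.range (X.fromSpecStalk (f i)) ∩
        (((A i ⊓ A j : X.Opens) : Set X) \ G i j)) := by
    intro j
    let C : Set X := ⋃ i : s, closure (Set.range (X.fromSpecStalk (f i)) ∩
      (((A i ⊓ A j : X.Opens) : Set X) \ G i j))
    have hC : IsClosed C := isClosed_iUnion_of_finite fun _ => isClosed_closure
    obtain ⟨B, hB, hjB, hBle⟩ := exists_isAffineOpen_mem_and_subset (U := A j ⊓ ⟨Cᶜ, hC.isOpen_compl⟩)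
      (x := f j) ⟨htA j, fun h => by
        obtain ⟨i, hi⟩ := Set.mem_iUnion.1 h
        exact hbad i j hi⟩
    exact ⟨B, hB, hjB, hBle.trans inf_le_left, fun i => Set.disjoint_left.2 fun z hzB hz =>
      (hBle hzB).2 (Set.mem_iUnion.2 ⟨i, subset_closure hz⟩)⟩
  choose B hB hjB hBA hBdisj using hB
  have hsymm : ∀ i j : s, ∀ z, z ∈ G j i → z ∈ A i ⊓ A j → z ∈ G i j := by
    intro i j z hz hzV
    refine mem_agree _ _ hzV ?_
    have := congrArg (X.presheaf.germ (G j i) z hz) (res_agree _ _ le_rfl : ores (agree_le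
      (ores ((inf_le_left : A j ⊓ A i ≤ A j).trans (hAW j)) (σ₀ j))
      (ores ((inf_le_right : A j ⊓ A i ≤ A i).trans (hAW i)) (σ₀ i))) _ = _)
    simp only [ores, TopCat.Presheaf.germ_res_apply] at this ⊢
    exact this.symm
  -- second shrinking
  have hE : ∀ k i j : s, f k ∈ ({f i.1, f j.1} : Set X) →
      f k ∉ closure ((((B i ⊓ B j : X.Opens) : Set X) \ G i j)) := by
    intro k i j hk
    have hc : IsCompact ((B i ⊓ B j : X.Opens) : Set X) :=
      QuasiSeparatedSpace.inter_isCompact _ _ (B i).2 (hB i).isCompact (B j).2 (hB j).isCompact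
    have h' := notMem_closure (𝟙 X) hc (G i j) (f k) ?_
    · rwa [Scheme.Hom.id_base, TopCat.coe_id, Set.range_id, Set.univ_inter] at h'
    intro z (hzB : z ∈ B i ⊓ B j) hzG (hzk : z ⤳ f k)
    have hzV : z ∈ A i ⊓ A j := ⟨hBA i hzB.1, hBA j hzB.2⟩
    rcases hk with hk | hk
    · exact Set.disjoint_left.1 (hBdisj j i) hzB.2
        ⟨(Scheme.range_fromSpecStalk (x := f i)).symm.subset (show z ⤳ f i by rwa [← hk]), hzV, hzG⟩
    · exact Set.disjoint_left.1 (hBdisj i j) hzB.1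
        ⟨(Scheme.range_fromSpecStalk (x := f j)).symm.subset (show z ⤳ f j by rwa [← hk]), ⟨hzV.2, hzV.1⟩,
          fun h => hzG (hsymm i j z h hzV)⟩
  let C : s → Set X := fun k => (⋃ j : s, closure (((B k ⊓ B j : X.Opens) : Set X) \ G k j))
  have hC : ∀ k, IsClosed (C k) := fun k => isClosed_iUnion_of_finite fun _ => isClosed_closure
  let D : s → X.Opens := fun k => B k ⊓ ⟨(C k)ᶜ, (hC k).isOpen_compl⟩
  have hkD : ∀ k, f k ∈ D k := fun k => ⟨hjB k, fun h => by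
    obtain ⟨j, hj⟩ := Set.mem_iUnion.1 h
    exact hE k k j (Or.inl rfl) hj⟩
  obtain ⟨σ, hσ, -⟩ := X.sheaf.existsUnique_gluing' D (⨆ k, D k) (fun k => homOfLE (le_iSup D k)) le_rfl
    (fun k => ores ((inf_le_left : D k ≤ B k).trans ((hBA k).trans (hAW k))) (σ₀ k)) fun i j => by
      refine TopCat.Presheaf.section_ext X.sheaf _ _ _ fun z hz => ?_
      have hzG : z ∈ G i j := not_not.1 fun h =>
        hz.1.2 (Set.mem_iUnion.2 ⟨j, subset_closure ⟨⟨hz.1.1, hz.2.1⟩, h⟩⟩)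
      have := congrArg (X.presheaf.germ (G i j) z hzG) (res_agree _ _ le_rfl : ores (agree_le
        (ores ((inf_le_left : A i ⊓ A j ≤ A i).trans (hAW i)) (σ₀ i))
        (ores ((inf_le_right : A i ⊓ A j ≤ A j).trans (hAW j)) (σ₀ j))) _ = _)
      change X.presheaf.germ _ z hz (X.presheaf.map _ _) = X.presheaf.germ _ z hz (X.presheaf.map _ _)
      simp only [ores, TopCat.Presheaf.germ_res_apply] at this ⊢
      exact this
  refine ⟨⨆ k, D k, σ, fun t ht => ⟨Opens.mem_iSup.2 ⟨⟨t, ht⟩, hkD _⟩, ?_⟩⟩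
  have hk := congrArg (X.presheaf.germ (D ⟨t, ht⟩) (f t) (hkD _)) (hσ ⟨t, ht⟩)
  simp only [ores, TopCat.Presheaf.germ_res_apply] at hk
  erw [TopCat.Presheaf.germ_res_apply] at hk
  rw [hk]
  exact (h₀ ⟨t, ht⟩).2

end Groth.Agent.AffineFin18
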